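import Groth.Agent.WeilLib.ExpSeries
import Mathlib.LinearAlgebra.Eigenspace.Zero
import Mathlib.LinearAlgebra.Eigenspace.Semisimple
import Mathlib.LinearAlgebra.Semisimple
import Mathlib.LinearAlgebra.FreeModule.Finite.Matrix
import Mathlib.RingTheory.PowerSeries.Inverse

/-! The dimension of the centralizer of a semisimple operator depends on its characteristic polynomial alone. -/

noncomputable section

universe u v

open Polynomial

namespace Groth.Agent.AVCentLib

open Groth.Agent.WeilLib (HasLogDeriv)

section Field

variable {K : Type u} [Field K] {V : Type v} [AddCommGroup V] [Module K V] [FiniteDimensional K V]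

theorem trace_mulLeft_mulRight_matrix {n : Type} [Fintype n] [DecidableEq n] (a b : Matrix n n K) :
    LinearMap.trace K (Matrix n n K) (LinearMap.mulRight K b ∘ₗ LinearMap.mulLeft K a) = a.trace * b.trace := by
  rw [LinearMap.trace_eq_matrix_trace K (Matrix.stdBasis K n n)]
  simp only [Matrix.trace, Matrix.diag, LinearMap.toMatrix_apply, Fintype.sum_prod_type, Finset.sum_mul_sum]
  refine Finset.sum_congr rfl fun i _ => Finset.sum_congr rfl fun j _ => ?_
  rw [Matrix.stdBasis_eq_single]
  show ((a * Matrix.single i j 1 * b : Matrix n n K)) i j = _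
  simp [Matrix.mul_apply, Matrix.single, Finset.sum_ite_eq', ite_and]

theorem trace_mulLeft_mulRight (a b : Module.End K V) :
    LinearMap.trace K (Module.End K V) (LinearMap.mulRight K b ∘ₗ LinearMap.mulLeft K a) =
      LinearMap.trace K V a * LinearMap.trace K V b := by
  let B := Module.finBasis K V
  let e := LinearMap.toMatrixAlgEquiv B
  rw [← LinearMap.trace_conj' _ e.toLinearEquiv, LinearMap.trace_eq_matrix_trace K B a,
    LinearMap.trace_eq_matrix_trace K B b]
  rw [show LinearMap.toMatrix B B a = e a from rfl, show LinearMap.toMatrix B B b = e b from rfl,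
    ← trace_mulLeft_mulRight_matrix]
  congr 1
  refine LinearMap.ext fun x => ?_
  show e (a * e.symm x * b) = e a * x * e b
  rw [map_mul, map_mul, e.apply_symm_apply]

theorem aeval_mulRight_apply (T f : Module.End K V) (p : K[X]) :
    (aeval (LinearMap.mulRight K T) p) f = f * aeval T p := by
  induction p using Polynomial.induction_on' with
  | add p q hp hq => rw [map_add, map_add, LinearMap.add_apply, hp, hq, mul_add]
  | monomial n a =>
    rw [aeval_monomial, aeval_monomial, LinearMap.pow_mulRight, ← Algebra.smul_def, ← Algebra.smul_def,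
      LinearMap.smul_apply, LinearMap.mulRight_apply, mul_smul_comm]

theorem aeval_mulLeft (T : Module.End K V) (p : K[X]) :
    aeval (LinearMap.mulLeft K T) p = LinearMap.mulLeft K (aeval T p) := by
  have := Polynomial.aeval_algHom_apply (Algebra.lmul K (Module.End K V)) T p
  exact this

theorem isSemisimple_ad {T : Module.End K V} {p : K[X]} (hp : Squarefree p) (h : aeval T p = 0)
    [PerfectField K] : Module.End.IsSemisimple (LinearMap.mulRight K T - LinearMap.mulLeft K T) := by
  refine Module.End.IsSemisimple.sub_of_commute (LinearMap.commute_mulLeft_right T T).symm ?_ ?_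
  · refine Module.End.isSemisimple_of_squarefree_aeval_eq_zero hp (LinearMap.ext fun f => ?_)
    rw [aeval_mulRight_apply, h, mul_zero, LinearMap.zero_apply]
  · refine Module.End.isSemisimple_of_squarefree_aeval_eq_zero hp ?_
    rw [aeval_mulLeft, h, LinearMap.mulLeft_zero_eq_zero]

theorem finrank_ker_of_isSemisimple {W : Type v} [AddCommGroup W] [Module K W] [FiniteDimensional K W]
    {f : Module.End K W} (hf : f.IsSemisimple) :
    Module.finrank K (LinearMap.ker f) = Module.finrank K W - f.charpoly.reverse.natDegree := by
  have h1 := LinearMap.finrank_maxGenEigenspace_zero_eq f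
  rw [(Module.End.isFinitelySemisimple_iff_isSemisimple.mpr hf).maxGenEigenspace_eq_eigenspace,
    Module.End.eigenspace_def, zero_smul, sub_zero] at h1
  rw [h1, Polynomial.reverse_natDegree, LinearMap.charpoly_natDegree]
  have := Polynomial.natTrailingDegree_le_natDegree f.charpoly
  rw [LinearMap.charpoly_natDegree] at this
  omega

theorem trace_ad_pow (T : Module.End K V) (n : ℕ) :
    LinearMap.trace K (Module.End K V) ((LinearMap.mulRight K T - LinearMap.mulLeft K T) ^ n) =
      ∑ m ∈ Finset.range (n + 1), (-1 : K) ^ (n - m) * (n.choose m : K) *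
        (LinearMap.trace K V (T ^ m) * LinearMap.trace K V (T ^ (n - m))) := by
  rw [sub_eq_add_neg, ((LinearMap.commute_mulLeft_right T T).symm.neg_right).add_pow, map_sum]
  refine Finset.sum_congr rfl fun m _ => ?_
  rw [← nsmul_eq_mul', ← neg_one_smul K (LinearMap.mulLeft K T), smul_pow, mul_smul_comm, map_nsmul, map_smul,
    LinearMap.pow_mulRight, LinearMap.pow_mulLeft, Module.End.mul_eq_comp, trace_mulLeft_mulRight,
    nsmul_eq_mul, smul_eq_mul]
  ring

end Field

section Rat

variable {L : Type u} [Field L] [CharZero L] (ι : ℚ →+* L)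

theorem HasLogDeriv.map' {F D : PowerSeries ℚ} (h : HasLogDeriv F D) :
    HasLogDeriv (PowerSeries.map ι F) (PowerSeries.map ι D) := by
  rw [HasLogDeriv] at h ⊢
  rw [← map_mul, ← h]
  ext n
  simp [PowerSeries.coeff_derivative]

/-- The power sums attached to a rational polynomial. -/
def powSum (P : ℚ[X]) (d : ℕ) : ℕ → ℚ
  | 0 => d
  | m + 1 => - PowerSeries.coeff m ((PowerSeries.derivative ℚ (P.reverse : PowerSeries ℚ)) * (P.reverse : PowerSeries ℚ)⁻¹)

theorem trace_pow_eq {V : Type v} [AddCommGroup V] [Module L V] [FiniteDimensional L V] (T : Module.End L V)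
    {P : ℚ[X]} (hP : P.Monic) (h : T.charpoly = P.map ι) (n : ℕ) :
    LinearMap.trace L V (T ^ n) = ι (powSum P P.natDegree n) := by
  rcases n with _ | m
  · rw [pow_zero, LinearMap.trace_one, powSum, map_natCast, ← LinearMap.charpoly_natDegree T, h,
      hP.natDegree_map]
  · have h0 : PowerSeries.constantCoeff (P.reverse : PowerSeries ℚ) ≠ 0 := by
      rw [Polynomial.constantCoeff_coe, Polynomial.coeff_zero_reverse, hP]; exact one_ne_zero
    have hl : HasLogDeriv (P.reverse : PowerSeries ℚ)
        ((PowerSeries.derivative ℚ (P.reverse : PowerSeries ℚ)) * (P.reverse : PowerSeries ℚ)⁻¹) := by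
      rw [HasLogDeriv, mul_left_comm, PowerSeries.mul_inv_cancel _ h0, mul_one]
    have h1 := WeilLib.hasLogDeriv_reverse_charpoly T
    have e : T.charpoly.reverse = P.reverse.map ι := by
      rw [h, Polynomial.reverse, Polynomial.reverse, hP.natDegree_map, Polynomial.reflect_map]
    rw [e, Polynomial.polynomial_map_coe] at h1
    have h2 := HasLogDeriv.map' ι hl
    rw [HasLogDeriv] at h1 h2
    have hne : PowerSeries.map ι (P.reverse : PowerSeries ℚ) ≠ 0 := by
      intro hz
      have := congrArg PowerSeries.constantCoeff hz
      rw [← PowerSeries.coeff_zero_eq_constantCoeff_apply, PowerSeries.coeff_map,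
        PowerSeries.coeff_zero_eq_constantCoeff_apply, map_zero] at this
      exact h0 ((map_eq_zero ι).mp this)
    have h3 := congrArg (PowerSeries.coeff m) (mul_left_cancel₀ hne (h1.symm.trans h2))
    rw [map_neg, PowerSeries.coeff_mk, PowerSeries.coeff_map] at h3
    rw [powSum, map_neg, ← h3, neg_neg]

/-- The traces of the powers of `ad T`. -/
def adSum (P : ℚ[X]) (n : ℕ) : ℚ :=
  ∑ m ∈ Finset.range (n + 1), (-1) ^ (n - m) * (n.choose m : ℚ) *
    (powSum P P.natDegree m * powSum P P.natDegree (n - m))

/-- The reversed characteristic polynomial of `ad T` as a rational series. -/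
def adSeries (P : ℚ[X]) : PowerSeries ℚ :=
  PowerSeries.subst (PowerSeries.mk fun m : ℕ => -(adSum P m) / (m : ℚ)) (PowerSeries.exp ℚ)

theorem coe_reverse_charpoly_ad {V : Type v} [AddCommGroup V] [Module L V] [FiniteDimensional L V]
    (T : Module.End L V) {P : ℚ[X]} (hP : P.Monic) (h : T.charpoly = P.map ι) :
    ((LinearMap.mulRight L T - LinearMap.mulLeft L T).charpoly.reverse : PowerSeries L) =
      PowerSeries.map ι (adSeries P) := by
  have h0 := WeilLib.constantCoeff_mk_div (fun m => -(adSum P m))
  have h2 := HasLogDeriv.map' ι (WeilLib.hasLogDeriv_exp_subst h0)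
  refine (WeilLib.hasLogDeriv_reverse_charpoly _).unique ?_ ?_
  · suffices e : (- PowerSeries.mk fun m => LinearMap.trace L _
        ((LinearMap.mulRight L T - LinearMap.mulLeft L T) ^ (m + 1))) =
        PowerSeries.map ι (PowerSeries.derivative ℚ (PowerSeries.mk fun m : ℕ => -(adSum P m) / (m : ℚ))) by
      rw [e]; exact h2
    ext m
    rw [map_neg, PowerSeries.coeff_mk, PowerSeries.coeff_map, WeilLib.derivative_mk_div,
      PowerSeries.coeff_mk, map_neg, trace_ad_pow, adSum, map_sum]
    congr 1
    refine Finset.sum_congr rfl fun j _ => ?_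
    rw [trace_pow_eq ι T hP h, trace_pow_eq ι T hP h]
    simp
  · rw [WeilLib.constantCoeff_reverse_charpoly, ← PowerSeries.coeff_zero_eq_constantCoeff_apply,
      PowerSeries.coeff_map, PowerSeries.coeff_zero_eq_constantCoeff_apply, adSeries]
    exact ((congrArg ι (WeilLib.constantCoeff_exp_subst h0)).trans (map_one ι)).symm

/-- Two semisimple operators with the same rational characteristic polynomial, over two fields,
have centralizers of equal dimension. -/
theorem finrank_centralizer_eq {L' : Type u} [Field L'] [CharZero L'] (ι' : ℚ →+* L')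
    {V : Type v} [AddCommGroup V] [Module L V] [FiniteDimensional L V] (T : Module.End L V)
    {V' : Type v} [AddCommGroup V'] [Module L' V'] [FiniteDimensional L' V'] (T' : Module.End L' V')
    {P : ℚ[X]} (hP : P.Monic) (h : T.charpoly = P.map ι) (h' : T'.charpoly = P.map ι')
    {p : L[X]} (hp : Squarefree p) (hp0 : aeval T p = 0)
    {p' : L'[X]} (hp' : Squarefree p') (hp0' : aeval T' p' = 0) :
    Module.finrank L (LinearMap.ker (LinearMap.mulRight L T - LinearMap.mulLeft L T)) =
      Module.finrank L' (LinearMap.ker (LinearMap.mulRight L' T' - LinearMap.mulLeft L' T')) := by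
  rw [finrank_ker_of_isSemisimple (isSemisimple_ad hp hp0), finrank_ker_of_isSemisimple (isSemisimple_ad hp' hp0'),
    show Module.finrank L (Module.End L V) = Module.finrank L V * Module.finrank L V from Module.finrank_linearMap L L V V,
    show Module.finrank L' (Module.End L' V') = Module.finrank L' V' * Module.finrank L' V' from Module.finrank_linearMap L' L' V' V',
    ← LinearMap.charpoly_natDegree T,
    ← LinearMap.charpoly_natDegree T', h, h', hP.natDegree_map, hP.natDegree_map]
  congr 1
  have key : ((LinearMap.mulRight L T - LinearMap.mulLeft L T).charpoly.reverse).support =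
      ((LinearMap.mulRight L' T' - LinearMap.mulLeft L' T').charpoly.reverse).support := by
    ext n
    rw [Polynomial.mem_support_iff, Polynomial.mem_support_iff, ← Polynomial.coeff_coe, ← Polynomial.coeff_coe,
      coe_reverse_charpoly_ad ι T hP h, coe_reverse_charpoly_ad ι' T' hP h', PowerSeries.coeff_map,
      PowerSeries.coeff_map]
    exact (_root_.map_ne_zero ι).trans (_root_.map_ne_zero ι').symm
  simp only [Polynomial.natDegree, Polynomial.degree, key]

end Rat

end Groth.Agent.AVCentLib
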