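import Groth.Agent.CSALib.BaseChange
import Mathlib.RingTheory.SimpleModule.IsAlgClosed
import Mathlib.LinearAlgebra.Eigenspace.Zero
import Mathlib.LinearAlgebra.Eigenspace.Semisimple
import Mathlib.LinearAlgebra.Semisimple
import Mathlib.LinearAlgebra.Trace
import Mathlib.RingTheory.SimpleRing.Field
import Mathlib.Algebra.Algebra.Subalgebra.Tower
import Mathlib.FieldTheory.PrimitiveElement
import Mathlib.Algebra.Algebra.Rat

/-! Dimensions of representations of central simple algebras over an algebraically closed field. -/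

noncomputable section

universe u v w

open scoped TensorProduct
open Polynomial

namespace Groth.Agent.AVCentLib

variable {C : Type u} [Field C] [IsAlgClosed C] [CharZero C] {W : Type v} [AddCommGroup W] [Module C W]
  [FiniteDimensional C W]

/-- A representation of a full matrix algebra has dimension divisible by the size. -/
theorem dvd_finrank_of_matrix {n : ℕ} [NeZero n] (φ : Matrix (Fin n) (Fin n) C →ₐ[C] Module.End C W) :
    n ∣ Module.finrank C W := by
  let E : Fin n → Module.End C W := fun i => φ (Matrix.single i i 1)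
  have htr : ∀ i, LinearMap.trace C W (E i) = LinearMap.trace C W (E 0) := by
    intro i
    have h1 : E i = φ (Matrix.single i 0 1) * φ (Matrix.single 0 i 1) := by
      rw [← map_mul, Matrix.single_mul_single_same]; simp [E]
    have h2 : E 0 = φ (Matrix.single 0 i 1) * φ (Matrix.single i 0 1) := by
      rw [← map_mul, Matrix.single_mul_single_same]; simp [E]
    rw [h1, h2, LinearMap.trace_mul_comm]
  have hsum : ∑ i, E i = 1 := by
    rw [← map_sum, ← map_one φ]
    congr 1
    ext a b
    simp [Matrix.sum_apply, Matrix.single_apply, Matrix.one_apply, ite_and]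
  have hidem : E 0 * E 0 = E 0 := by
    rw [← map_mul, Matrix.single_mul_single_same]; simp [E]
  have hproj : LinearMap.IsProj (LinearMap.range (E 0)) (E 0) :=
    ⟨fun x => LinearMap.mem_range_self _ x, fun x hx => by
      obtain ⟨y, rfl⟩ := hx
      exact LinearMap.congr_fun hidem y⟩
  have h := congrArg (LinearMap.trace C W) hsum
  rw [map_sum, Finset.sum_congr rfl (fun i _ => htr i), Finset.sum_const, Finset.card_univ, Fintype.card_fin,
    hproj.trace, LinearMap.trace_one, nsmul_eq_mul] at h
  exact ⟨_, (Nat.cast_injective (R := C) (by push_cast; exact h.symm))⟩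

/-- A representation of a central simple algebra of dimension `d²` has dimension divisible by `d`. -/
theorem dvd_finrank_of_central_simple {K : Type w} [Field K] {D : Type w} [Ring D] [Algebra K D]
    [Algebra.IsCentral K D] [IsSimpleRing D] [Module.Finite K D] {d : ℕ} (hd : Module.finrank K D = d ^ 2)
    (σ : K →+* C) (φ : D →+* Module.End C W) (hφ : ∀ a, φ (algebraMap K D a) = algebraMap C _ (σ a)) :
    d ∣ Module.finrank C W := by
  letI : Algebra K C := σ.toAlgebra
  haveI := CSALib.isSimpleRing_baseChange K D C
  obtain ⟨n, hn, ⟨e⟩⟩ := IsSimpleRing.exists_algEquiv_matrix_of_isAlgClosed C (C ⊗[K] D)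
  have hnd : n = d := by
    have h := e.toLinearEquiv.finrank_eq
    rw [Module.finrank_baseChange, Module.finrank_matrix, hd] at h
    simp at h
    exact (Nat.pow_left_injective two_ne_zero (by simpa [pow_two] using h)).symm
  subst hnd
  letI : Algebra K (Module.End C W) := ((algebraMap C (Module.End C W)).comp σ).toAlgebra' fun a x => Algebra.commutes (σ a) x
  haveI : IsScalarTower K C (Module.End C W) := IsScalarTower.of_algebraMap_eq fun a => rfl
  let φ' : D →ₐ[K] Module.End C W :=
    { φ with commutes' := fun a => (hφ a).trans (IsScalarTower.algebraMap_apply K C (Module.End C W) a).symm }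
  exact dvd_finrank_of_matrix
    ((Algebra.TensorProduct.lift (Algebra.ofId C (Module.End C W)) φ' fun c x => Algebra.commute_algebraMap_left c (φ' x)).comp
      e.symm.toAlgHom)

/-- The multiplicity of a root of a central element is divisible by the degree. -/
theorem dvd_rootMultiplicity {K : Type w} [Field K] [CharZero K] {D : Type w} [Ring D] [Algebra K D]
    [Algebra.IsCentral K D] [IsSimpleRing D] [Module.Finite K D] {d : ℕ} (hd : Module.finrank K D = d ^ 2)
    [Algebra ℚ K] [Algebra.IsAlgebraic ℚ K] (ψ : D →+* Module.End C W) (θ : K) (hθ : IntermediateField.adjoin ℚ {θ} = ⊤)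
    {m : ℕ} (hchar : (ψ (algebraMap K D θ)).charpoly = (minpoly ℚ θ).map (algebraMap ℚ C) ^ m) : d ∣ m := by
  obtain ⟨σ⟩ : Nonempty (K →ₐ[ℚ] C) := ⟨IsAlgClosed.lift⟩
  let Θ := ψ (algebraMap K D θ)
  have hint : IsIntegral ℚ θ := Algebra.IsIntegral.isIntegral θ
  let h := (minpoly ℚ θ).map (algebraMap ℚ C)
  have hsep : h.Separable := (minpoly.irreducible hint).separable.map
  -- the algebra map from `K`
  let ψK : K →+* Module.End C W := ψ.comp (algebraMap K D)
  have hrat : ∀ r : ℚ, ψK (algebraMap ℚ K r) = algebraMap C _ (algebraMap ℚ C r) := fun r => by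
    have := RingHom.congr_fun (Subsingleton.elim (ψK.comp (algebraMap ℚ K))
      ((algebraMap C (Module.End C W)).comp (algebraMap ℚ C))) r
    exact this
  have h0 : aeval Θ h = 0 := by
    rw [aeval_def, eval₂_map]
    have := Polynomial.hom_eval₂ (minpoly ℚ θ) (algebraMap ℚ K) ψK θ
    rw [← aeval_def, minpoly.aeval, map_zero] at this
    rw [show (algebraMap C (Module.End C W)).comp (algebraMap ℚ C) = ψK.comp (algebraMap ℚ K) from
      RingHom.ext fun r => (hrat r).symm]
    exact this.symm
  have hss : Module.End.IsSemisimple Θ := Module.End.isSemisimple_of_squarefree_aeval_eq_zero hsep.squarefree h0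
  have hμ : h.IsRoot (σ θ) := by
    rw [IsRoot, eval_map, ← aeval_def, aeval_algHom_apply, minpoly.aeval, map_zero]
  let Wσ := Module.End.eigenspace Θ (σ θ)
  have hdim : Module.finrank C Wσ = m := by
    classical
    rw [show Wσ = Module.End.maxGenEigenspace Θ (σ θ) from
      ((Module.End.isFinitelySemisimple_iff_isSemisimple.mpr hss).maxGenEigenspace_eq_eigenspace _).symm,
      LinearMap.finrank_maxGenEigenspace_eq, hchar, ← Polynomial.count_roots, Polynomial.roots_pow, Multiset.count_nsmul, Polynomial.count_roots]
    have h1 := Polynomial.rootMultiplicity_le_one_of_separable hsep (σ θ)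
    have h2 := (Polynomial.rootMultiplicity_pos ((minpoly.monic hint).map (algebraMap ℚ C)).ne_zero).2 hμ
    rw [show Polynomial.rootMultiplicity (σ θ) h = 1 from le_antisymm h1 h2, mul_one]
  -- invariance
  have hinv : ∀ (x : D), ∀ w ∈ Wσ, ψ x w ∈ Wσ := fun x w hw => by
    rw [Module.End.mem_eigenspace_iff] at hw ⊢
    have hc : Θ * ψ x = ψ x * Θ := by
      rw [← map_mul, ← map_mul, (Algebra.commute_algebraMap_left θ x).eq]
    have := LinearMap.congr_fun hc w
    simp only [Module.End.mul_apply] at this
    rw [this, hw, map_smul]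
  let φ : D →+* Module.End C Wσ :=
    { toFun := fun x => (ψ x).restrict (hinv x)
      map_one' := LinearMap.ext fun w => Subtype.ext (by simp)
      map_mul' := fun x y => LinearMap.ext fun w => Subtype.ext (by simp)
      map_zero' := LinearMap.ext fun w => Subtype.ext (by simp)
      map_add' := fun x y => LinearMap.ext fun w => Subtype.ext (by simp) }
  -- the centre acts through `σ`
  have hσ : ∀ a : K, φ (algebraMap K D a) = algebraMap C _ (σ a) := by
    suffices h : ∀ a : K, ∀ w ∈ Wσ, ψK a w = σ a • w from
      fun a => LinearMap.ext fun w => Subtype.ext (h a w.1 w.2)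
    intro a
    have hmem : a ∈ Algebra.adjoin ℚ {θ} := by
      rw [← IntermediateField.adjoin_simple_toSubalgebra_of_isAlgebraic hint.isAlgebraic, hθ]; trivial
    induction hmem using Algebra.adjoin_induction with
    | mem x hx =>
      obtain rfl := Set.mem_singleton_iff.1 hx
      exact fun w hw => Module.End.mem_eigenspace_iff.1 hw
    | algebraMap r => intro w _; rw [hrat, AlgHom.commutes]; rfl
    | add x y _ _ hx hy => intro w hw; rw [map_add, map_add, LinearMap.add_apply, hx w hw, hy w hw, add_smul]
    | mul x y _ _ hx hy =>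
      intro w hw
      rw [map_mul, map_mul, Module.End.mul_apply, hy w hw, map_smul, hx w hw, smul_smul, mul_comm]
  rw [← hdim]
  exact dvd_finrank_of_central_simple hd σ.toRingHom φ hσ

set_option maxHeartbeats 800000 in
set_option synthInstance.maxHeartbeats 200000 in
/-- For a simple algebra over `ℚ` with centre of degree `f` and a representation in which the
characteristic polynomials of (multiples of) elements with irreducible minimal polynomial are powers of
these, the dimension is a multiple of `f * d`. -/
theorem center_mul_degree_dvd {D : Type w} [Ring D] [Algebra ℚ D] [IsSimpleRing D] [Module.Finite ℚ D]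
    (ψ : D →+* Module.End C W) (n : ℕ)
    (H : ∀ x : D, ∃ c : ℚ, c ≠ 0 ∧ (Irreducible (minpoly ℚ (c • x)) →
      (ψ (c • x)).charpoly = (minpoly ℚ (c • x)).map (algebraMap ℚ C) ^ (n / (minpoly ℚ (c • x)).natDegree) ∧
        n = n / (minpoly ℚ (c • x)).natDegree * (minpoly ℚ (c • x)).natDegree))
    {f d : ℕ} (hf : Module.finrank ℚ (Subalgebra.center ℚ D) = f) (hd : Module.finrank ℚ D = d ^ 2 * f) :
    f * d ∣ n := by
  -- the centre as a field
  have hKf : IsField (Subalgebra.center ℚ D) := by
    have h := IsSimpleRing.isField_center D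
    refine ⟨⟨0, 1, zero_ne_one⟩, fun a b => mul_comm a b, fun {a} ha => ?_⟩
    obtain ⟨b, hb⟩ := h.mul_inv_cancel (a := (⟨(a : D), a.2⟩ : Subring.center D))
      fun e => ha (Subtype.ext (congrArg (fun z : Subring.center D => (z : D)) e))
    exact ⟨⟨(b : D), b.2⟩, Subtype.ext (congrArg (fun z : Subring.center D => (z : D)) hb)⟩
  letI : Field (Subalgebra.center ℚ D) := hKf.toField
  haveI : CharZero (Subalgebra.center ℚ D) :=
    charZero_of_injective_algebraMap (algebraMap ℚ (Subalgebra.center ℚ D)).injective
  letI algQ : Algebra ℚ (Subalgebra.center ℚ D) := (Subalgebra.center ℚ D).algebra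
  letI : Algebra (Subalgebra.center ℚ D) D := RingHom.toAlgebra' (Subalgebra.center ℚ D).val.toRingHom
    fun a x => (Subalgebra.mem_center_iff.1 a.2 x).symm
  haveI : IsScalarTower ℚ (Subalgebra.center ℚ D) D := IsScalarTower.of_algebraMap_eq fun r => rfl
  haveI : Algebra.IsCentral (Subalgebra.center ℚ D) D := ⟨fun x hx => Algebra.mem_bot.2
    ⟨⟨x, Subalgebra.mem_center_iff.2 fun y => Subalgebra.mem_center_iff.1 hx y⟩, rfl⟩⟩
  haveI : @Module.Finite (Subalgebra.center ℚ D) D _ _ Algebra.toModule :=
    Module.Finite.of_restrictScalars_finite ℚ (Subalgebra.center ℚ D) D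
  haveI : Module.Finite ℚ (Subalgebra.center ℚ D) :=
    Module.Finite.of_injective (Subalgebra.center ℚ D).val.toLinearMap Subtype.val_injective
  have hf0 : 0 < f := hf ▸ Module.finrank_pos
  have hKD : Module.finrank (Subalgebra.center ℚ D) D = d ^ 2 := by
    have h := Module.finrank_mul_finrank ℚ (Subalgebra.center ℚ D) D
    rw [hf, hd, mul_comm (d ^ 2)] at h
    exact Nat.eq_of_mul_eq_mul_left hf0 h
  obtain ⟨θ₀, hθ₀⟩ := Field.exists_primitive_element ℚ (Subalgebra.center ℚ D)
  obtain ⟨c, hc, hH⟩ := H (θ₀ : D)
  set θ : Subalgebra.center ℚ D := c • θ₀ with hθd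
  have hθ : IntermediateField.adjoin ℚ {θ} = ⊤ := by
    refine le_antisymm le_top (hθ₀ ▸ IntermediateField.adjoin_simple_le_iff.2 ?_)
    have h1 := IntermediateField.mem_adjoin_simple_self ℚ θ
    have h2 := (IntermediateField.adjoin ℚ {θ}).toSubalgebra.smul_mem h1 c⁻¹
    rwa [hθd, smul_smul, inv_mul_cancel₀ hc, one_smul] at h2
  have hint : IsIntegral ℚ θ := Algebra.IsIntegral.isIntegral θ
  have hmin : minpoly ℚ (c • (θ₀ : D)) = minpoly ℚ θ :=
    minpoly.algHom_eq (Subalgebra.center ℚ D).val Subtype.val_injective θ
  rw [hmin] at hH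
  have hdeg : (minpoly ℚ θ).natDegree = f := by
    rw [← IntermediateField.adjoin.finrank hint, hθ, IntermediateField.finrank_top', hf]
  obtain ⟨hchar, hn⟩ := hH (minpoly.irreducible hint)
  rw [hdeg] at hchar hn
  obtain ⟨e, he⟩ := dvd_rootMultiplicity hKD ψ θ hθ (m := n / f) hchar
  exact ⟨e, by rw [hn, he]; ring⟩

end Groth.Agent.AVCentLib
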