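import Groth.Agent.AVCharpoly.Minpoly
import Groth.Agent.AVCharpoly.Apply
import Groth.Agent.AVSimpleLib.Basic
import Groth.Agent.AVCentLib.SimpleRep

/-! The rational endomorphism algebra acting on a Tate module with extended scalars. -/

noncomputable section

set_option linter.style.haveILetI false
set_option linter.unusedSectionVars false
set_option maxHeartbeats 1000000
set_option synthInstance.maxHeartbeats 200000

universe u

open CategoryTheory MonoidalCategory CartesianMonoidalCategory AlgebraicGeometry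
open scoped TensorProduct MonObj
open Polynomial

namespace Groth.Agent.AVCentLib

open Groth.Agent

variable {k : Type u} [Field k] (A : Over (Spec (CommRingCat.of k))) [GrpObj A] [IsCommMonObj A]
  (l : ℕ) [Fact l.Prime] (T : Over (Spec (CommRingCat.of k))) (C : Type) [Field C] [CharZero C] [Algebra ℤ_[l] C]

/-- The representation with extended scalars. -/
def rep : EndAV.End A →+* Module.End C (C ⊗[ℤ_[l]] AbDual.TateMod A l T) :=
  (Module.End.baseChangeHom ℤ_[l] C (AbDual.TateMod A l T)).toRingHom.comp (EndAV.End.tateRep l T)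

/-- Its extension to the rational endomorphism algebra. -/
def rep0 : EndAV.End0 A →+* Module.End C (C ⊗[ℤ_[l]] AbDual.TateMod A l T) :=
  (Algebra.TensorProduct.lift (Algebra.ofId ℚ _)
    ({ rep A l T C with commutes' := fun n => RingHom.congr_fun (Subsingleton.elim ((rep A l T C).comp (algebraMap ℤ (EndAV.End A))) (algebraMap ℤ _)) n } :
      EndAV.End A →ₐ[ℤ] Module.End C (C ⊗[ℤ_[l]] AbDual.TateMod A l T))
    fun c _ => Algebra.commute_algebraMap_left c _).toRingHom

theorem rep0_toEnd0 (φ : EndAV.End A) :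
    rep0 A l T C (EndAV.toEnd0 φ) = (EndAV.End.tateRep l T φ).baseChange C := by
  show (Algebra.TensorProduct.lift _ _ _) ((1 : ℚ) ⊗ₜ[ℤ] φ) = _
  refine (Algebra.TensorProduct.lift_tmul _ _ _ _ _).trans ?_
  rw [map_one, one_mul]
  rfl

variable [IsProper A.hom] [GeometricallyIntegral A.hom]


/-- The centre of a simple subalgebra of `End⁰ A`: `f d ∣ 2 g`. -/
theorem center_mul_degree_dvd_two_mul_dim {g : ℕ} (hg : topologicalKrullDim A.left = g)
    (Ω : Type u) [Field Ω] [Algebra k Ω] [IsAlgClosed Ω] (hl : (l : k) ≠ 0)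
    [Module.Free ℤ_[l] (AbDual.TateMod A l (SGA7.pt Ω))] [Module.Finite ℤ_[l] (AbDual.TateMod A l (SGA7.pt Ω))]
    {D : Type u} [Ring D] [Algebra ℚ D] [IsSimpleRing D] [Module.Finite ℚ D]
    (jD : D →ₐ[ℚ] EndAV.End0 A) (hj : Function.Injective jD)
    {f d : ℕ} (hf : Module.finrank ℚ (Subalgebra.center ℚ D) = f) (hd : Module.finrank ℚ D = d ^ 2 * f) :
    f * d ∣ 2 * g := by
  refine center_mul_degree_dvd (C := AlgebraicClosure ℚ_[l]) (W := AlgebraicClosure ℚ_[l] ⊗[ℤ_[l]] AbDual.TateMod A l (SGA7.pt Ω))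
    ((rep0 A l (SGA7.pt Ω) (AlgebraicClosure ℚ_[l])).comp jD.toRingHom) (2 * g) ?_ hf hd
  intro x
  obtain ⟨q, φ₀, hq⟩ := AVSimpleLib.exists_toEnd0 (jD x)
  obtain ⟨c, φ, hc0, hc⟩ : ∃ (c : ℚ) (φ : EndAV.End A), c ≠ 0 ∧ jD (c • x) = EndAV.toEnd0 φ := by
    rcases eq_or_ne q 0 with rfl | hq0
    · exact ⟨1, 0, one_ne_zero, by rw [one_smul, hq, zero_smul, map_zero]⟩
    · refine ⟨q⁻¹, φ₀, inv_ne_zero hq0, ?_⟩
      rw [map_smul, hq, smul_smul, inv_mul_cancel₀ hq0, one_smul]
  refine ⟨c, hc0, fun hirr => ?_⟩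
  obtain ⟨ν, hνm, hν0, he, -⟩ := AVCharpoly.exists_int_minpoly φ
  have hmin : ν.map (Int.castRingHom ℚ) = minpoly ℚ (c • x) := by
    rw [he, ← hc]
    exact minpoly.algHom_eq jD hj (c • x)
  obtain ⟨P, hPm, hPd, hP, hPc⟩ := AVCharpoly.exists_charpoly Ω l hl hg φ
  have hpow := AVCharpoly.eq_pow_of_irreducible hg φ (hPm.map _) (by rw [hPm.natDegree_map, hPd]) hP hνm hν0
    (hmin ▸ hirr)
  rw [hmin] at hpow
  refine ⟨?_, ?_⟩
  · rw [show ((rep0 A l (SGA7.pt Ω) (AlgebraicClosure ℚ_[l])).comp jD.toRingHom) (c • x) = rep0 A l (SGA7.pt Ω) (AlgebraicClosure ℚ_[l]) (EndAV.toEnd0 φ) by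
      rw [← hc]; rfl, rep0_toEnd0, ← Polynomial.map_pow, ← hpow, LinearMap.charpoly_baseChange, hPc,
      Polynomial.map_map, Polynomial.map_map]
    exact congrArg (fun r => P.map r) (Subsingleton.elim _ _)
  · have h := congrArg Polynomial.natDegree hpow
    rw [hPm.natDegree_map, hPd, Polynomial.natDegree_pow] at h
    exact h

end Groth.Agent.AVCentLib
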